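import Groth.Agent.RegLocal.Completion
import Groth.Agent.ArtFunLib.Smooth
import Groth.Agent.WildQuotLib.PSReg

/-! A Noetherian local algebra whose Artinian points lift along surjections is regular. -/

set_option autoImplicit false
set_option linter.style.haveILetI false

universe u

open CategoryTheory ArtFun ArtFun.Art IsLocalRing

noncomputable section

namespace Groth.Agent.RegPointLib

variable {k : Type u} [Field k] {R : Type u} [CommRing R] [IsLocalRing R] [IsNoetherianRing R] [Algebra k R]
  (resR : R →ₐ[k] k)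

include resR in
theorem res_surjective : Function.Surjective resR := fun c => ⟨algebraMap k R c, resR.commutes c⟩

theorem ker_res : RingHom.ker resR = maximalIdeal R :=
  eq_maximalIdeal (RingHom.ker_isMaximal_of_surjective resR (res_surjective resR))

theorem apply_pow_eq_zero {A : Art k k} (φ : HomSet R resR A) {N : ℕ} (hN : maximalIdeal A ^ N = ⊥)
    {r : R} (hr : r ∈ maximalIdeal R ^ N) : φ.1 r = 0 := by
  have h : (maximalIdeal R).map φ.1 ≤ maximalIdeal A := by
    refine Ideal.map_le_iff_le_comap.2 fun x hx => ?_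
    rw [← ker_res resR] at hx
    rw [Ideal.mem_comap, Art.mem_maximalIdeal_iff]
    exact (ArtFunLib.res_homSet φ x).trans hx
  have h' := Ideal.pow_right_mono h N (Ideal.map_pow φ.1 _ N ▸ Ideal.mem_map_of_mem φ.1 hr)
  rwa [hN] at h'

/-- The augmentation of the completion. -/
def resHat : AdicCompletion (maximalIdeal R) R →ₐ[k] k :=
  (Ideal.Quotient.liftₐ (maximalIdeal R) resR fun r hr => by rwa [← ker_res resR] at hr).comp
    ((AdicCompletion.evalOneₐ (maximalIdeal R)).restrictScalars k)

theorem resHat_of (r : R) : resHat resR (algebraMap R _ r) = resR r := by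
  simp only [resHat, AlgHom.comp_apply, AlgHom.restrictScalars_apply, AlgHom.commutes]
  rfl

/-- The completion as a coefficient ring. -/
def cring : CRing k k :=
  haveI := RegLocal.isLocalRing_completion R (maximalIdeal R) (maximalIdeal.isMaximal R).ne_top
  { carrier := AdicCompletion (maximalIdeal R) R
    res := resHat resR
    res_surjective := fun c => ⟨algebraMap k _ c, (resHat resR).commutes c⟩
    isAdicComplete := by
      rw [RegLocal.maximalIdeal_completion R (maximalIdeal R) (maximalIdeal.isMaximal R).ne_top]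
      exact AdicCompletion.isAdicComplete_self _ (maximalIdeal R).fg_of_isNoetherianRing }

theorem hom_ext_completion {A : Art k k} (φ ψ : AdicCompletion (maximalIdeal R) R →ₐ[k] A) {N : ℕ}
    (hφ : ∀ r ∈ maximalIdeal R ^ N, φ (algebraMap R _ r) = 0)
    (h : ∀ r, φ (algebraMap R _ r) = ψ (algebraMap R _ r)) : φ = ψ := by
  refine AlgHom.ext fun x => ?_
  obtain ⟨r, hr⟩ := Ideal.Quotient.mk_surjective (AdicCompletion.evalₐ (maximalIdeal R) N x)
  have hmem : x - algebraMap R _ r ∈ LinearMap.ker (AdicCompletion.eval (maximalIdeal R) R N) := by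
    have e : AdicCompletion.evalₐ (maximalIdeal R) N (x - algebraMap R _ r) = 0 := by
      rw [map_sub, AlgHom.commutes, ← hr, sub_eq_zero]
      rfl
    have hle : maximalIdeal R ^ N ≤ maximalIdeal R ^ N • ⊤ := by simp
    rw [LinearMap.mem_ker, ← AdicCompletion.factor_evalₐ_eq_eval _ _ hle, e, map_zero]
  rw [← AdicCompletion.pow_smul_top_eq_ker_eval (maximalIdeal R).fg_of_isNoetherianRing] at hmem
  have h0 : φ (x - algebraMap R _ r) = 0 ∧ ψ (x - algebraMap R _ r) = 0 := by
    refine Submodule.smul_induction_on hmem (fun a ha y _ => ?_) (fun a b ha hb => ?_)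
    · rw [Algebra.smul_def, map_mul, map_mul, ← h a, hφ a ha, zero_mul, zero_mul]
      exact ⟨rfl, rfl⟩
    · rw [map_add, map_add, ha.1, hb.1, ha.2, hb.2, add_zero]
      exact ⟨rfl, rfl⟩
  rw [← sub_add_cancel x (algebraMap R _ r), map_add, map_add, h0.1, h0.2, h r]

theorem isSmoothFunctor_cring (h : IsSmoothFunctor (hR R resR)) :
    IsSmoothFunctor (hR (cring resR).carrier (cring resR).res) := by
  intro B A μ hμ φ
  let toC : R →ₐ[k] (cring resR).carrier := IsScalarTower.toAlgHom k R (AdicCompletion (maximalIdeal R) R)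
  let φ₀ : HomSet R resR A := ⟨φ.1.comp toC, AlgHom.ext fun r => by
    show A.res (φ.1 _) = resR r
    rw [ArtFunLib.res_homSet]
    exact resHat_of resR r⟩
  obtain ⟨ψ₀, hψ₀⟩ := h μ hμ φ₀
  obtain ⟨N, hN⟩ := ArtFunLib.exists_pow_eq_bot B
  let ψ : AdicCompletion (maximalIdeal R) R →ₐ[k] B :=
    (Ideal.Quotient.liftₐ (maximalIdeal R ^ N) ψ₀.1 fun r hr => apply_pow_eq_zero resR ψ₀ hN hr).comp
      ((AdicCompletion.evalₐ (maximalIdeal R) N).restrictScalars k)
  have hψ : ∀ r, ψ (algebraMap R _ r) = ψ₀.1 r := fun r => by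
    simp only [ψ, AlgHom.comp_apply, AlgHom.restrictScalars_apply, AlgHom.commutes]
    rfl
  have e0 : ∀ r, φ.1 (algebraMap R (AdicCompletion (maximalIdeal R) R) r : AdicCompletion (maximalIdeal R) R) = μ (ψ₀.1 r) := fun r =>
    (congrArg (fun χ : HomSet R resR A => χ.1 r) hψ₀).symm
  have key : φ.1 = μ.toAlgHom.comp ψ := by
    refine hom_ext_completion φ.1 (μ.toAlgHom.comp ψ) (N := N) (fun r hr => ?_) fun r => ?_
    · exact (e0 r).trans ((congrArg μ.toAlgHom (apply_pow_eq_zero resR ψ₀ hN hr)).trans (map_zero _))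
    · exact (e0 r).trans (congrArg μ.toAlgHom (hψ r).symm)
  exact ⟨⟨ψ, AlgHom.ext fun x => by
    show B.res (ψ x) = (cring resR).res x
    rw [← Art.res_app μ (ψ x), ← ArtFunLib.res_homSet φ x, key]
    rfl⟩, Subtype.ext key.symm⟩

theorem isRegularLocalRing_of_isSmoothFunctor (h : IsSmoothFunctor (hR R resR)) : IsRegularLocalRing R := by
  obtain ⟨n, ⟨e⟩⟩ := (ArtFunLib.isSmoothFunctor_iff_powerSeries Function.surjective_id (cring resR)).1
    (isSmoothFunctor_cring resR h)
  rw [RegLocal.isRegularLocalRing_completion_iff R (maximalIdeal R) (maximalIdeal.isMaximal R).ne_top]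
  haveI := RegLocal.isLocalRing_completion R (maximalIdeal R) (maximalIdeal.isMaximal R).ne_top
  exact IsRegularLocalRing.of_ringEquiv e.symm.toRingEquiv

theorem ringKrullDim_eq_finrank [IsRegularLocalRing R] :
    ringKrullDim R = (Module.finrank (ResidueField R) (CotangentSpace R) : WithBot ℕ∞) :=
  ((IsRegularLocalRing.iff_finrank_cotangentSpace R).1 ‹_›).symm

end Groth.Agent.RegPointLib
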